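import Cfsg.Agent.E8Deg.Defs2

/-!
# Generated tables for E₈: the block 0
-/

set_option autoImplicit false
set_option synthInstance.maxSize 2000
set_option synthInstance.maxHeartbeats 200000
set_option maxRecDepth 20000

namespace Cfsg.Agent.E8Deg

open Cfsg.Lie

/-- The roots. -/
def L0 : Fin 56 → ℕ := fun j => ([120, 122, 125, 129, 134, 140, 146, 151, 155, 158, 160, 161, 168, 173, 177, 180, 182, 183, 187, 190, 192, 193, 196, 198, 199, 201, 202, 203, 206, 208, 209, 211, 212, 213, 215, 216, 217, 218, 220, 221, 222, 223, 224, 225, 227, 228, 229, 230, 231, 232, 233, 234, 235, 236, 237, 238] : List ℕ).getD j.val 0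

/-- The movers. -/
def M0 : List ℕ := [13, 35, 45, 51, 54, 55, 61, 64, 65, 68, 69, 70, 72, 73, 74, 75, 76, 77, 83, 86, 87, 90, 91, 92, 98, 100, 101, 102, 103, 104, 106, 107, 108, 109, 111, 112, 113, 115, 116, 118, 121, 123, 124, 126, 127, 128, 130, 131, 132, 133, 135, 136, 137, 138, 139, 141, 142, 143, 144, 145, 147, 148, 149, 150, 152, 153, 154, 156, 157, 159, 162, 163, 164, 165, 166, 167, 169, 170, 171, 172, 174, 175, 176, 178, 179, 181, 184, 185, 186, 188, 189, 191, 194, 195, 197, 200, 204, 205, 207, 210, 214, 219, 226]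

/-- The targets of the movers. -/
def tb0 : List (ℕ × List (ℕ × ℕ × ℤ)) :=
  [(13, [(44, 0, 1), (45, 1, -1), (46, 2, 1), (47, 3, -1), (48, 4, 1), (49, 5, -1), (50, 6, -1), (51, 7, -1), (52, 8, -1), (53, 9, -1), (54, 10, -1), (55, 11, -1)]),
   (35, [(28, 1, 1), (29, 2, -1), (31, 3, 1), (34, 4, -1), (38, 5, 1), (43, 11, 1), (44, 12, -1), (50, 17, -1), (51, 21, -1), (52, 24, -1), (53, 26, -1), (54, 27, -1)]),
   (45, [(22, 1, 1), (23, 2, -1), (25, 3, 1), (34, 6, -1), (38, 7, -1), (42, 11, 1), (44, 13, 1), (48, 17, -1), (49, 21, -1), (52, 30, 1), (53, 32, 1), (54, 33, 1)]),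
   (51, [(19, 1, 1), (20, 2, -1), (25, 4, 1), (31, 6, -1), (38, 8, 1), (41, 11, 1), (44, 14, -1), (47, 17, -1), (49, 24, 1), (51, 30, 1), (53, 35, -1), (54, 36, -1)]),
   (54, [(18, 1, 1), (20, 3, -1), (23, 4, 1), (29, 6, -1), (38, 9, -1), (40, 11, 1), (44, 15, 1), (46, 17, -1), (49, 26, -1), (51, 32, -1), (52, 35, -1), (54, 37, 1)]),
   (55, [(18, 2, 1), (19, 3, -1), (22, 4, 1), (28, 6, -1), (38, 10, 1), (39, 11, 1), (44, 16, -1), (45, 17, -1), (49, 27, 1), (51, 33, 1), (52, 36, 1), (53, 37, 1)]),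
   (61, [(15, 1, 1), (16, 2, -1), (25, 5, 1), (31, 7, 1), (34, 8, 1), (37, 11, 1), (44, 18, 1), (47, 21, 1), (48, 24, 1), (50, 30, 1), (53, 39, 1), (54, 40, 1)]),
   (64, [(14, 1, 1), (16, 3, -1), (23, 5, 1), (29, 7, 1), (34, 9, -1), (36, 11, 1), (44, 19, -1), (46, 21, 1), (48, 26, -1), (50, 32, -1), (52, 39, 1), (54, 41, -1)]),
   (65, [(14, 2, 1), (15, 3, -1), (22, 5, 1), (28, 7, 1), (34, 10, 1), (35, 11, 1), (44, 20, 1), (45, 21, 1), (48, 27, 1), (50, 33, 1), (52, 40, -1), (53, 41, -1)]),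
   (68, [(13, 1, 1), (16, 4, -1), (20, 5, 1), (29, 8, -1), (31, 9, -1), (33, 11, 1), (44, 22, 1), (46, 24, -1), (47, 26, -1), (50, 35, 1), (51, 39, 1), (54, 42, 1)]),
   (69, [(13, 2, 1), (15, 4, -1), (19, 5, 1), (28, 8, -1), (31, 10, 1), (32, 11, 1), (44, 23, -1), (45, 24, -1), (47, 27, 1), (50, 36, -1), (51, 40, -1), (53, 42, 1)]),
   (70, [(13, 3, 1), (14, 4, -1), (18, 5, 1), (28, 9, 1), (29, 10, 1), (30, 11, 1), (44, 25, 1), (45, 26, 1), (46, 27, 1), (50, 37, 1), (51, 41, 1), (52, 42, 1)]),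
   (72, [(12, 0, 1), (17, 6, -1), (21, 7, -1), (24, 8, -1), (26, 9, -1), (27, 10, -1), (45, 28, -1), (46, 29, -1), (47, 31, -1), (48, 34, -1), (49, 38, -1), (55, 43, -1)]),
   (73, [(12, 1, 1), (16, 6, -1), (20, 7, -1), (23, 8, -1), (25, 9, -1), (27, 11, 1), (44, 28, -1), (46, 30, 1), (47, 32, 1), (48, 35, 1), (49, 39, 1), (54, 43, -1)]),
   (74, [(12, 2, 1), (15, 6, -1), (19, 7, -1), (22, 8, -1), (25, 10, 1), (26, 11, 1), (44, 29, 1), (45, 30, 1), (47, 33, -1), (48, 36, -1), (49, 40, -1), (53, 43, -1)]),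
   (75, [(12, 3, 1), (14, 6, -1), (18, 7, -1), (22, 9, 1), (23, 10, 1), (24, 11, 1), (44, 31, -1), (45, 32, -1), (46, 33, -1), (48, 37, 1), (49, 41, 1), (52, 43, -1)]),
   (76, [(12, 4, 1), (13, 6, -1), (18, 8, 1), (19, 9, 1), (20, 10, 1), (21, 11, 1), (44, 34, 1), (45, 35, 1), (46, 36, 1), (47, 37, 1), (49, 42, -1), (51, 43, -1)]),
   (77, [(12, 5, 1), (13, 7, 1), (14, 8, 1), (15, 9, 1), (16, 10, 1), (17, 11, 1), (44, 38, -1), (45, 39, -1), (46, 40, -1), (47, 41, -1), (48, 42, -1), (50, 43, -1)]),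
   (83, [(9, 1, 1), (10, 2, -1), (25, 12, -1), (31, 13, -1), (34, 14, -1), (37, 17, -1), (38, 18, -1), (41, 21, -1), (42, 24, -1), (43, 30, -1), (53, 45, 1), (54, 46, 1)]),
   (86, [(8, 1, 1), (10, 3, -1), (23, 12, -1), (29, 13, -1), (34, 15, 1), (36, 17, -1), (38, 19, 1), (40, 21, -1), (42, 26, 1), (43, 32, 1), (52, 45, 1), (54, 47, -1)]),
   (87, [(8, 2, 1), (9, 3, -1), (22, 12, -1), (28, 13, -1), (34, 16, -1), (35, 17, -1), (38, 20, -1), (39, 21, -1), (42, 27, -1), (43, 33, -1), (52, 46, -1), (53, 47, -1)]),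
   (90, [(7, 1, 1), (10, 4, -1), (20, 12, -1), (29, 14, 1), (31, 15, 1), (33, 17, -1), (38, 22, -1), (40, 24, 1), (41, 26, 1), (43, 35, -1), (51, 45, 1), (54, 48, 1)]),
   (91, [(7, 2, 1), (9, 4, -1), (19, 12, -1), (28, 14, 1), (31, 16, -1), (32, 17, -1), (38, 23, 1), (39, 24, 1), (41, 27, -1), (43, 36, 1), (51, 46, -1), (53, 48, 1)]),
   (92, [(7, 3, 1), (8, 4, -1), (18, 12, -1), (28, 15, -1), (29, 16, -1), (30, 17, -1), (38, 25, -1), (39, 26, -1), (40, 27, -1), (43, 37, -1), (51, 47, 1), (52, 48, 1)]),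
   (98, [(6, 4, 1), (7, 5, -1), (13, 12, -1), (28, 22, -1), (29, 23, -1), (30, 24, -1), (31, 25, -1), (32, 26, -1), (33, 27, -1), (43, 42, -1), (50, 48, -1), (51, 49, -1)]),
   (100, [(5, 0, 1), (11, 6, -1), (21, 13, 1), (24, 14, 1), (26, 15, 1), (27, 16, 1), (39, 28, 1), (40, 29, 1), (41, 31, 1), (42, 34, 1), (49, 44, -1), (55, 50, -1)]),
   (101, [(5, 1, 1), (10, 6, -1), (20, 13, 1), (23, 14, 1), (25, 15, 1), (27, 17, -1), (38, 28, 1), (40, 30, -1), (41, 32, -1), (42, 35, -1), (49, 45, 1), (54, 50, -1)]),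
   (102, [(5, 2, 1), (9, 6, -1), (19, 13, 1), (22, 14, 1), (25, 16, -1), (26, 17, -1), (38, 29, -1), (39, 30, -1), (41, 33, 1), (42, 36, 1), (49, 46, -1), (53, 50, -1)]),
   (103, [(5, 3, 1), (8, 6, -1), (18, 13, 1), (22, 15, -1), (23, 16, -1), (24, 17, -1), (38, 31, 1), (39, 32, 1), (40, 33, 1), (42, 37, -1), (49, 47, 1), (52, 50, -1)]),
   (104, [(5, 4, 1), (7, 6, -1), (18, 14, -1), (19, 15, -1), (20, 16, -1), (21, 17, -1), (38, 34, -1), (39, 35, -1), (40, 36, -1), (41, 37, -1), (49, 48, -1), (51, 50, -1)]),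
   (106, [(4, 0, 1), (11, 7, -1), (17, 13, -1), (24, 18, 1), (26, 19, 1), (27, 20, 1), (35, 28, -1), (36, 29, -1), (37, 31, -1), (42, 38, 1), (48, 44, 1), (55, 51, -1)]),
   (107, [(4, 1, 1), (10, 7, -1), (16, 13, -1), (23, 18, 1), (25, 19, 1), (27, 21, -1), (34, 28, -1), (36, 30, 1), (37, 32, 1), (42, 39, -1), (48, 45, -1), (54, 51, -1)]),
   (108, [(4, 2, 1), (9, 7, -1), (15, 13, -1), (22, 18, 1), (25, 20, -1), (26, 21, -1), (34, 29, 1), (35, 30, 1), (37, 33, -1), (42, 40, 1), (48, 46, 1), (53, 51, -1)]),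
   (109, [(4, 3, 1), (8, 7, -1), (14, 13, -1), (22, 19, -1), (23, 20, -1), (24, 21, -1), (34, 31, -1), (35, 32, -1), (36, 33, -1), (42, 41, -1), (48, 47, -1), (52, 51, -1)]),
   (111, [(3, 0, 1), (11, 8, -1), (17, 14, -1), (21, 18, -1), (26, 22, 1), (27, 23, 1), (32, 28, 1), (33, 29, 1), (37, 34, -1), (41, 38, -1), (47, 44, -1), (55, 52, -1)]),
   (112, [(3, 1, 1), (10, 8, -1), (16, 14, -1), (20, 18, -1), (25, 22, 1), (27, 24, -1), (31, 28, 1), (33, 30, -1), (37, 35, 1), (41, 39, 1), (47, 45, 1), (54, 52, -1)]),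
   (113, [(3, 2, 1), (9, 8, -1), (15, 14, -1), (19, 18, -1), (25, 23, -1), (26, 24, -1), (31, 29, -1), (32, 30, -1), (37, 36, -1), (41, 40, -1), (47, 46, -1), (53, 52, -1)]),
   (115, [(2, 0, 1), (11, 9, -1), (17, 15, -1), (21, 19, -1), (24, 22, -1), (27, 25, 1), (30, 28, -1), (33, 31, 1), (36, 34, 1), (40, 38, 1), (46, 44, 1), (55, 53, -1)]),
   (116, [(2, 1, 1), (10, 9, -1), (16, 15, -1), (20, 19, -1), (23, 22, -1), (27, 26, -1), (29, 28, -1), (33, 32, -1), (36, 35, -1), (40, 39, -1), (46, 45, -1), (54, 53, -1)]),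
   (118, [(1, 0, 1), (11, 10, -1), (17, 16, -1), (21, 20, -1), (24, 23, -1), (26, 25, -1), (30, 29, -1), (32, 31, -1), (35, 34, -1), (39, 38, -1), (45, 44, -1), (55, 54, -1)]),
   (121, [(0, 1, 1), (10, 11, -1), (16, 17, -1), (20, 21, -1), (23, 24, -1), (25, 26, -1), (29, 30, -1), (31, 32, -1), (34, 35, -1), (38, 39, -1), (44, 45, -1), (54, 55, -1)]),
   (123, [(1, 2, 1), (9, 10, -1), (15, 16, -1), (19, 20, -1), (22, 23, -1), (26, 27, -1), (28, 29, -1), (32, 33, -1), (35, 36, -1), (39, 40, -1), (45, 46, -1), (53, 54, -1)]),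
   (124, [(0, 2, 1), (9, 11, -1), (15, 17, -1), (19, 21, -1), (22, 24, -1), (25, 27, 1), (28, 30, -1), (31, 33, 1), (34, 36, 1), (38, 40, 1), (44, 46, 1), (53, 55, -1)]),
   (126, [(2, 3, 1), (8, 9, -1), (14, 15, -1), (18, 19, -1), (23, 25, -1), (24, 26, -1), (29, 31, -1), (30, 32, -1), (36, 37, -1), (40, 41, -1), (46, 47, -1), (52, 53, -1)]),
   (127, [(1, 3, 1), (8, 10, -1), (14, 16, -1), (18, 20, -1), (22, 25, 1), (24, 27, -1), (28, 31, 1), (30, 33, -1), (35, 37, 1), (39, 41, 1), (45, 47, 1), (52, 54, -1)]),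
   (128, [(0, 3, 1), (8, 11, -1), (14, 17, -1), (18, 21, -1), (22, 26, 1), (23, 27, 1), (28, 32, 1), (29, 33, 1), (34, 37, -1), (38, 41, -1), (44, 47, -1), (52, 55, -1)]),
   (130, [(3, 4, 1), (7, 8, -1), (13, 14, -1), (19, 22, -1), (20, 23, -1), (21, 24, -1), (31, 34, -1), (32, 35, -1), (33, 36, -1), (41, 42, -1), (47, 48, -1), (51, 52, -1)]),
   (131, [(2, 4, 1), (7, 9, -1), (13, 15, -1), (18, 22, 1), (20, 25, -1), (21, 26, -1), (29, 34, 1), (30, 35, 1), (33, 37, -1), (40, 42, 1), (46, 48, 1), (51, 53, -1)]),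
   (132, [(1, 4, 1), (7, 10, -1), (13, 16, -1), (18, 23, 1), (19, 25, 1), (21, 27, -1), (28, 34, -1), (30, 36, 1), (32, 37, 1), (39, 42, -1), (45, 48, -1), (51, 54, -1)]),
   (133, [(0, 4, 1), (7, 11, -1), (13, 17, -1), (18, 24, 1), (19, 26, 1), (20, 27, 1), (28, 35, -1), (29, 36, -1), (31, 37, -1), (38, 42, 1), (44, 48, 1), (51, 55, -1)]),
   (135, [(4, 5, 1), (6, 7, -1), (14, 18, -1), (15, 19, -1), (16, 20, -1), (17, 21, -1), (34, 38, -1), (35, 39, -1), (36, 40, -1), (37, 41, -1), (48, 49, -1), (50, 51, -1)]),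
   (136, [(3, 5, 1), (6, 8, -1), (13, 18, 1), (15, 22, -1), (16, 23, -1), (17, 24, -1), (31, 38, 1), (32, 39, 1), (33, 40, 1), (37, 42, -1), (47, 49, 1), (50, 52, -1)]),
   (137, [(2, 5, 1), (6, 9, -1), (13, 19, 1), (14, 22, 1), (16, 25, -1), (17, 26, -1), (29, 38, -1), (30, 39, -1), (33, 41, 1), (36, 42, 1), (46, 49, -1), (50, 53, -1)]),
   (138, [(1, 5, 1), (6, 10, -1), (13, 20, 1), (14, 23, 1), (15, 25, 1), (17, 27, -1), (28, 38, 1), (30, 40, -1), (32, 41, -1), (35, 42, -1), (45, 49, 1), (50, 54, -1)]),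
   (139, [(0, 5, 1), (6, 11, -1), (13, 21, 1), (14, 24, 1), (15, 26, 1), (16, 27, 1), (28, 39, 1), (29, 40, 1), (31, 41, 1), (34, 42, 1), (44, 49, -1), (50, 55, -1)]),
   (141, [(4, 6, 1), (5, 7, -1), (12, 13, -1), (22, 28, -1), (23, 29, -1), (24, 30, -1), (25, 31, -1), (26, 32, -1), (27, 33, -1), (42, 43, -1), (48, 50, -1), (49, 51, -1)]),
   (142, [(3, 6, 1), (5, 8, -1), (12, 14, -1), (19, 28, 1), (20, 29, 1), (21, 30, 1), (25, 34, -1), (26, 35, -1), (27, 36, -1), (41, 43, 1), (47, 50, 1), (49, 52, -1)]),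
   (143, [(2, 6, 1), (5, 9, -1), (12, 15, -1), (18, 28, -1), (20, 31, 1), (21, 32, 1), (23, 34, 1), (24, 35, 1), (27, 37, -1), (40, 43, -1), (46, 50, -1), (49, 53, -1)]),
   (144, [(1, 6, 1), (5, 10, -1), (12, 16, -1), (18, 29, -1), (19, 31, -1), (21, 33, 1), (22, 34, -1), (24, 36, 1), (26, 37, 1), (39, 43, 1), (45, 50, 1), (49, 54, -1)]),
   (145, [(0, 6, 1), (5, 11, -1), (12, 17, -1), (18, 30, -1), (19, 32, -1), (20, 33, -1), (22, 35, -1), (23, 36, -1), (25, 37, -1), (38, 43, -1), (44, 50, -1), (49, 55, -1)]),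
   (147, [(3, 7, 1), (4, 8, -1), (12, 18, -1), (15, 28, -1), (16, 29, -1), (17, 30, -1), (25, 38, -1), (26, 39, -1), (27, 40, -1), (37, 43, -1), (47, 51, 1), (48, 52, 1)]),
   (148, [(2, 7, 1), (4, 9, -1), (12, 19, -1), (14, 28, 1), (16, 31, -1), (17, 32, -1), (23, 38, 1), (24, 39, 1), (27, 41, -1), (36, 43, 1), (46, 51, -1), (48, 53, 1)]),
   (149, [(1, 7, 1), (4, 10, -1), (12, 20, -1), (14, 29, 1), (15, 31, 1), (17, 33, -1), (22, 38, -1), (24, 40, 1), (26, 41, 1), (35, 43, -1), (45, 51, 1), (48, 54, 1)]),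
   (150, [(0, 7, 1), (4, 11, -1), (12, 21, -1), (14, 30, 1), (15, 32, 1), (16, 33, 1), (22, 39, -1), (23, 40, -1), (25, 41, -1), (34, 43, 1), (44, 51, -1), (48, 55, 1)]),
   (152, [(2, 8, 1), (3, 9, -1), (12, 22, -1), (13, 28, -1), (16, 34, -1), (17, 35, -1), (20, 38, -1), (21, 39, -1), (27, 42, -1), (33, 43, -1), (46, 52, -1), (47, 53, -1)]),
   (153, [(1, 8, 1), (3, 10, -1), (12, 23, -1), (13, 29, -1), (15, 34, 1), (17, 36, -1), (19, 38, 1), (21, 40, -1), (26, 42, 1), (32, 43, 1), (45, 52, 1), (47, 54, -1)]),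
   (154, [(0, 8, 1), (3, 11, -1), (12, 24, -1), (13, 30, -1), (15, 35, 1), (16, 36, 1), (19, 39, 1), (20, 40, 1), (25, 42, -1), (31, 43, -1), (44, 52, -1), (47, 55, -1)]),
   (156, [(1, 9, 1), (2, 10, -1), (12, 25, -1), (13, 31, -1), (14, 34, -1), (17, 37, -1), (18, 38, -1), (21, 41, -1), (24, 42, -1), (30, 43, -1), (45, 53, 1), (46, 54, 1)]),
   (157, [(0, 9, 1), (2, 11, -1), (12, 26, -1), (13, 32, -1), (14, 35, -1), (16, 37, 1), (18, 39, -1), (20, 41, 1), (23, 42, 1), (29, 43, 1), (44, 53, -1), (46, 55, 1)]),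
   (159, [(0, 10, 1), (1, 11, -1), (12, 27, -1), (13, 33, -1), (14, 36, -1), (15, 37, -1), (18, 40, -1), (19, 41, -1), (22, 42, -1), (28, 43, -1), (44, 54, -1), (45, 55, -1)]),
   (162, [(5, 12, 1), (7, 13, 1), (8, 14, 1), (9, 15, 1), (10, 16, 1), (11, 17, 1), (38, 44, -1), (39, 45, -1), (40, 46, -1), (41, 47, -1), (42, 48, -1), (43, 50, -1)]),
   (163, [(4, 12, 1), (6, 13, -1), (8, 18, 1), (9, 19, 1), (10, 20, 1), (11, 21, 1), (34, 44, 1), (35, 45, 1), (36, 46, 1), (37, 47, 1), (42, 49, -1), (43, 51, -1)]),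
   (164, [(3, 12, 1), (6, 14, -1), (7, 18, -1), (9, 22, 1), (10, 23, 1), (11, 24, 1), (31, 44, -1), (32, 45, -1), (33, 46, -1), (37, 48, 1), (41, 49, 1), (43, 52, -1)]),
   (165, [(2, 12, 1), (6, 15, -1), (7, 19, -1), (8, 22, -1), (10, 25, 1), (11, 26, 1), (29, 44, 1), (30, 45, 1), (33, 47, -1), (36, 48, -1), (40, 49, -1), (43, 53, -1)]),
   (166, [(1, 12, 1), (6, 16, -1), (7, 20, -1), (8, 23, -1), (9, 25, -1), (11, 27, 1), (28, 44, -1), (30, 46, 1), (32, 47, 1), (35, 48, 1), (39, 49, 1), (43, 54, -1)]),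
   (167, [(0, 12, 1), (6, 17, -1), (7, 21, -1), (8, 24, -1), (9, 26, -1), (10, 27, -1), (28, 45, -1), (29, 46, -1), (31, 47, -1), (34, 48, -1), (38, 49, -1), (43, 55, -1)]),
   (169, [(3, 13, 1), (4, 14, -1), (5, 18, 1), (9, 28, 1), (10, 29, 1), (11, 30, 1), (25, 44, 1), (26, 45, 1), (27, 46, 1), (37, 50, 1), (41, 51, 1), (42, 52, 1)]),
   (170, [(2, 13, 1), (4, 15, -1), (5, 19, 1), (8, 28, -1), (10, 31, 1), (11, 32, 1), (23, 44, -1), (24, 45, -1), (27, 47, 1), (36, 50, -1), (40, 51, -1), (42, 53, 1)]),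
   (171, [(1, 13, 1), (4, 16, -1), (5, 20, 1), (8, 29, -1), (9, 31, -1), (11, 33, 1), (22, 44, 1), (24, 46, -1), (26, 47, -1), (35, 50, 1), (39, 51, 1), (42, 54, 1)]),
   (172, [(0, 13, 1), (4, 17, -1), (5, 21, 1), (8, 30, -1), (9, 32, -1), (10, 33, -1), (22, 45, 1), (23, 46, 1), (25, 47, 1), (34, 50, -1), (38, 51, -1), (42, 55, 1)]),
   (174, [(2, 14, 1), (3, 15, -1), (5, 22, 1), (7, 28, 1), (10, 34, 1), (11, 35, 1), (20, 44, 1), (21, 45, 1), (27, 48, 1), (33, 50, 1), (40, 52, -1), (41, 53, -1)]),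
   (175, [(1, 14, 1), (3, 16, -1), (5, 23, 1), (7, 29, 1), (9, 34, -1), (11, 36, 1), (19, 44, -1), (21, 46, 1), (26, 48, -1), (32, 50, -1), (39, 52, 1), (41, 54, -1)]),
   (176, [(0, 14, 1), (3, 17, -1), (5, 24, 1), (7, 30, 1), (9, 35, -1), (10, 36, -1), (19, 45, -1), (20, 46, -1), (25, 48, 1), (31, 50, 1), (38, 52, -1), (41, 55, -1)]),
   (178, [(1, 15, 1), (2, 16, -1), (5, 25, 1), (7, 31, 1), (8, 34, 1), (11, 37, 1), (18, 44, 1), (21, 47, 1), (24, 48, 1), (30, 50, 1), (39, 53, 1), (40, 54, 1)]),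
   (179, [(0, 15, 1), (2, 17, -1), (5, 26, 1), (7, 32, 1), (8, 35, 1), (10, 37, -1), (18, 45, 1), (20, 47, -1), (23, 48, -1), (29, 50, -1), (38, 53, -1), (40, 55, 1)]),
   (181, [(0, 16, 1), (1, 17, -1), (5, 27, 1), (7, 33, 1), (8, 36, 1), (9, 37, 1), (18, 46, 1), (19, 47, 1), (22, 48, 1), (28, 50, 1), (38, 54, -1), (39, 55, -1)]),
   (184, [(2, 18, 1), (3, 19, -1), (4, 22, 1), (6, 28, -1), (10, 38, 1), (11, 39, 1), (16, 44, -1), (17, 45, -1), (27, 49, 1), (33, 51, 1), (36, 52, 1), (37, 53, 1)]),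
   (185, [(1, 18, 1), (3, 20, -1), (4, 23, 1), (6, 29, -1), (9, 38, -1), (11, 40, 1), (15, 44, 1), (17, 46, -1), (26, 49, -1), (32, 51, -1), (35, 52, -1), (37, 54, 1)]),
   (186, [(0, 18, 1), (3, 21, -1), (4, 24, 1), (6, 30, -1), (9, 39, -1), (10, 40, -1), (15, 45, 1), (16, 46, 1), (25, 49, 1), (31, 51, 1), (34, 52, 1), (37, 55, 1)]),
   (188, [(1, 19, 1), (2, 20, -1), (4, 25, 1), (6, 31, -1), (8, 38, 1), (11, 41, 1), (14, 44, -1), (17, 47, -1), (24, 49, 1), (30, 51, 1), (35, 53, -1), (36, 54, -1)]),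
   (189, [(0, 19, 1), (2, 21, -1), (4, 26, 1), (6, 32, -1), (8, 39, 1), (10, 41, -1), (14, 45, -1), (16, 47, 1), (23, 49, -1), (29, 51, -1), (34, 53, 1), (36, 55, -1)]),
   (191, [(0, 20, 1), (1, 21, -1), (4, 27, 1), (6, 33, -1), (8, 40, 1), (9, 41, 1), (14, 46, -1), (15, 47, -1), (22, 49, 1), (28, 51, 1), (34, 54, 1), (35, 55, 1)]),
   (194, [(1, 22, 1), (2, 23, -1), (3, 25, 1), (6, 34, -1), (7, 38, -1), (11, 42, 1), (13, 44, 1), (17, 48, -1), (21, 49, -1), (30, 52, 1), (32, 53, 1), (33, 54, 1)]),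
   (195, [(0, 22, 1), (2, 24, -1), (3, 26, 1), (6, 35, -1), (7, 39, -1), (10, 42, -1), (13, 45, 1), (16, 48, 1), (20, 49, 1), (29, 52, -1), (31, 53, -1), (33, 55, 1)]),
   (197, [(0, 23, 1), (1, 24, -1), (3, 27, 1), (6, 36, -1), (7, 40, -1), (9, 42, 1), (13, 46, 1), (15, 48, -1), (19, 49, -1), (28, 52, 1), (31, 54, -1), (32, 55, -1)]),
   (200, [(0, 25, 1), (1, 26, -1), (2, 27, 1), (6, 37, -1), (7, 41, -1), (8, 42, -1), (13, 47, 1), (14, 48, 1), (18, 49, 1), (28, 53, 1), (29, 54, 1), (30, 55, 1)]),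
   (204, [(1, 28, 1), (2, 29, -1), (3, 31, 1), (4, 34, -1), (5, 38, 1), (11, 43, 1), (12, 44, -1), (17, 50, -1), (21, 51, -1), (24, 52, -1), (26, 53, -1), (27, 54, -1)]),
   (205, [(0, 28, 1), (2, 30, -1), (3, 32, 1), (4, 35, -1), (5, 39, 1), (10, 43, -1), (12, 45, -1), (16, 50, 1), (20, 51, 1), (23, 52, 1), (25, 53, 1), (27, 55, -1)]),
   (207, [(0, 29, 1), (1, 30, -1), (3, 33, 1), (4, 36, -1), (5, 40, 1), (9, 43, 1), (12, 46, -1), (15, 50, -1), (19, 51, -1), (22, 52, -1), (25, 54, 1), (26, 55, 1)]),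
   (210, [(0, 31, 1), (1, 32, -1), (2, 33, 1), (4, 37, -1), (5, 41, 1), (8, 43, -1), (12, 47, -1), (14, 50, 1), (18, 51, 1), (22, 53, -1), (23, 54, -1), (24, 55, -1)]),
   (214, [(0, 34, 1), (1, 35, -1), (2, 36, 1), (3, 37, -1), (5, 42, 1), (7, 43, 1), (12, 48, -1), (13, 50, -1), (18, 52, 1), (19, 53, 1), (20, 54, 1), (21, 55, 1)]),
   (219, [(0, 38, 1), (1, 39, -1), (2, 40, 1), (3, 41, -1), (4, 42, 1), (6, 43, -1), (12, 49, -1), (13, 51, -1), (14, 52, -1), (15, 53, -1), (16, 54, -1), (17, 55, -1)]),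
   (226, [(0, 44, 1), (1, 45, -1), (2, 46, 1), (3, 47, -1), (4, 48, 1), (5, 49, -1), (6, 50, -1), (7, 51, -1), (8, 52, -1), (9, 53, -1), (10, 54, -1), (11, 55, -1)])]

/-- The target map. -/
def tg0 : ℕ → Fin 56 → Option (Fin 56 × ℤ) := look tb0

/-- The coordinates not reached from the highest one. -/
def bot0 : List (Fin 56) := [0, 1, 2, 3, 4, 5, 6, 7, 8, 9, 10, 12, 13, 14, 15, 16, 18, 19, 20, 22, 23, 25, 28, 29, 31, 34, 38, 44]

/-- The low coordinates used as pivots. -/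
def core0 : List (Fin 56) := [1, 2, 3, 4, 5, 6, 7, 8, 9, 10, 12, 13, 14, 15, 16, 18, 19, 20, 22, 23, 25, 28, 29, 31, 34, 38, 44]

/-- The moves reaching a pivot. -/
def cel0 (s : Fin 56) : List (ℕ × Fin 56) :=
  ([[],
    [(121, 0)],
    [(123, 1), (124, 0)],
    [(126, 2), (127, 1), (128, 0)],
    [(130, 3), (131, 2), (132, 1), (133, 0)],
    [(135, 4), (136, 3), (137, 2), (138, 1), (139, 0)],
    [(141, 4), (142, 3), (143, 2), (144, 1), (145, 0)],
    [(135, 6), (141, 5), (147, 3), (148, 2), (149, 1), (150, 0)],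
    [(130, 7), (136, 6), (142, 5), (147, 4), (152, 2), (153, 1), (154, 0)],
    [(126, 8), (131, 7), (137, 6), (143, 5), (148, 4), (152, 3), (156, 1), (157, 0)],
    [(123, 9), (127, 8), (132, 7), (138, 6), (144, 5), (149, 4), (153, 3), (156, 2), (159, 0)],
    [(121, 10), (124, 9), (128, 8), (133, 7), (139, 6), (145, 5), (150, 4), (154, 3), (157, 2), (159, 1)],
    [(162, 5), (163, 4), (164, 3), (165, 2), (166, 1), (167, 0)],
    [(141, 12), (162, 7), (163, 6), (169, 3), (170, 2), (171, 1), (172, 0)],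
    [(130, 13), (142, 12), (162, 8), (164, 6), (169, 4), (174, 2), (175, 1), (176, 0)],
    [(126, 14), (131, 13), (143, 12), (162, 9), (165, 6), (170, 4), (174, 3), (178, 1), (179, 0)],
    [(123, 15), (127, 14), (132, 13), (144, 12), (162, 10), (166, 6), (171, 4), (175, 3), (178, 2), (181, 0)],
    [(121, 16), (124, 15), (128, 14), (133, 13), (145, 12), (162, 11), (167, 6), (172, 4), (176, 3), (179, 2), (181, 1)],
    [(135, 14), (136, 13), (147, 12), (163, 8), (164, 7), (169, 5), (184, 2), (185, 1), (186, 0)],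
    [(126, 18), (135, 15), (137, 13), (148, 12), (163, 9), (165, 7), (170, 5), (184, 3), (188, 1), (189, 0)],
    [(123, 19), (127, 18), (135, 16), (138, 13), (149, 12), (163, 10), (166, 7), (171, 5), (185, 3), (188, 2), (191, 0)],
    [(121, 20), (124, 19), (128, 18), (135, 17), (139, 13), (150, 12), (163, 11), (167, 7), (172, 5), (186, 3), (189, 2), (191, 1)],
    [(130, 19), (131, 18), (136, 15), (137, 14), (152, 12), (164, 9), (165, 8), (174, 5), (184, 4), (194, 1), (195, 0)],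
    [(123, 22), (130, 20), (132, 18), (136, 16), (138, 14), (153, 12), (164, 10), (166, 8), (175, 5), (185, 4), (194, 2), (197, 0)],
    [(121, 23), (124, 22), (130, 21), (133, 18), (136, 17), (139, 14), (154, 12), (164, 11), (167, 8), (176, 5), (186, 4), (195, 2), (197, 1)],
    [(126, 23), (127, 22), (131, 20), (132, 19), (137, 16), (138, 15), (156, 12), (165, 10), (166, 9), (178, 5), (188, 4), (194, 3), (200, 0)],
    [(121, 25), (126, 24), (128, 22), (131, 21), (133, 19), (137, 17), (139, 15), (157, 12), (165, 11), (167, 9), (179, 5), (189, 4), (195, 3), (200, 1)],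
    [(123, 26), (124, 25), (127, 24), (128, 23), (132, 21), (133, 20), (138, 17), (139, 16), (159, 12), (166, 11), (167, 10), (181, 5), (191, 4), (197, 3), (200, 2)],
    [(141, 22), (142, 19), (143, 18), (147, 15), (148, 14), (152, 13), (169, 9), (170, 8), (174, 7), (184, 6), (204, 1), (205, 0)],
    [(123, 28), (141, 23), (142, 20), (144, 18), (147, 16), (149, 14), (153, 13), (169, 10), (171, 8), (175, 7), (185, 6), (204, 2), (207, 0)],
    [(121, 29), (124, 28), (141, 24), (142, 21), (145, 18), (147, 17), (150, 14), (154, 13), (169, 11), (172, 8), (176, 7), (186, 6), (205, 2), (207, 1)],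
    [(126, 29), (127, 28), (141, 25), (143, 20), (144, 19), (148, 16), (149, 15), (156, 13), (170, 10), (171, 9), (178, 7), (188, 6), (204, 3), (210, 0)],
    [(121, 31), (126, 30), (128, 28), (141, 26), (143, 21), (145, 19), (148, 17), (150, 15), (157, 13), (170, 11), (172, 9), (179, 7), (189, 6), (205, 3), (210, 1)],
    [(123, 32), (124, 31), (127, 30), (128, 29), (141, 27), (144, 21), (145, 20), (149, 17), (150, 16), (159, 13), (171, 11), (172, 10), (181, 7), (191, 6), (207, 3), (210, 2)],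
    [(130, 31), (131, 29), (132, 28), (142, 25), (143, 23), (144, 22), (152, 16), (153, 15), (156, 14), (174, 10), (175, 9), (178, 8), (194, 6), (204, 4), (214, 0)],
    [(121, 34), (130, 32), (131, 30), (133, 28), (142, 26), (143, 24), (145, 22), (152, 17), (154, 15), (157, 14), (174, 11), (176, 9), (179, 8), (195, 6), (205, 4), (214, 1)],
    [(123, 35), (124, 34), (130, 33), (132, 30), (133, 29), (142, 27), (144, 24), (145, 23), (153, 17), (154, 16), (159, 14), (175, 11), (176, 10), (181, 8), (197, 6), (207, 4), (214, 2)],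
    [(126, 36), (127, 35), (128, 34), (131, 33), (132, 32), (133, 31), (143, 27), (144, 26), (145, 25), (156, 17), (157, 16), (159, 15), (178, 11), (179, 10), (181, 9), (200, 6), (210, 4), (214, 3)],
    [(135, 34), (136, 31), (137, 29), (138, 28), (147, 25), (148, 23), (149, 22), (152, 20), (153, 19), (156, 18), (184, 10), (185, 9), (188, 8), (194, 7), (204, 5), (219, 0)],
    [(121, 38), (135, 35), (136, 32), (137, 30), (139, 28), (147, 26), (148, 24), (150, 22), (152, 21), (154, 19), (157, 18), (184, 11), (186, 9), (189, 8), (195, 7), (205, 5), (219, 1)],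
    [(123, 39), (124, 38), (135, 36), (136, 33), (138, 30), (139, 29), (147, 27), (149, 24), (150, 23), (153, 21), (154, 20), (159, 18), (185, 11), (186, 10), (191, 8), (197, 7), (207, 5), (219, 2)],
    [(126, 40), (127, 39), (128, 38), (135, 37), (137, 33), (138, 32), (139, 31), (148, 27), (149, 26), (150, 25), (156, 21), (157, 20), (159, 19), (188, 11), (189, 10), (191, 9), (200, 7), (210, 5), (219, 3)],
    [(130, 41), (131, 40), (132, 39), (133, 38), (136, 37), (137, 36), (138, 35), (139, 34), (152, 27), (153, 26), (154, 25), (156, 24), (157, 23), (159, 22), (194, 11), (195, 10), (197, 9), (200, 8), (214, 5), (219, 4)],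
    [(141, 42), (142, 41), (143, 40), (144, 39), (145, 38), (147, 37), (148, 36), (149, 35), (150, 34), (152, 33), (153, 32), (154, 31), (156, 30), (157, 29), (159, 28), (204, 11), (205, 10), (207, 9), (210, 8), (214, 7), (219, 6)],
    [(162, 38), (163, 34), (164, 31), (165, 29), (166, 28), (169, 25), (170, 23), (171, 22), (174, 20), (175, 19), (178, 18), (184, 16), (185, 15), (188, 14), (194, 13), (204, 12), (226, 0)],
    [(121, 44), (162, 39), (163, 35), (164, 32), (165, 30), (167, 28), (169, 26), (170, 24), (172, 22), (174, 21), (176, 19), (179, 18), (184, 17), (186, 15), (189, 14), (195, 13), (205, 12), (226, 1)],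
    [(123, 45), (124, 44), (162, 40), (163, 36), (164, 33), (166, 30), (167, 29), (169, 27), (171, 24), (172, 23), (175, 21), (176, 20), (181, 18), (185, 17), (186, 16), (191, 14), (197, 13), (207, 12), (226, 2)],
    [(126, 46), (127, 45), (128, 44), (162, 41), (163, 37), (165, 33), (166, 32), (167, 31), (170, 27), (171, 26), (172, 25), (178, 21), (179, 20), (181, 19), (188, 17), (189, 16), (191, 15), (200, 13), (210, 12), (226, 3)],
    [(130, 47), (131, 46), (132, 45), (133, 44), (162, 42), (164, 37), (165, 36), (166, 35), (167, 34), (174, 27), (175, 26), (176, 25), (178, 24), (179, 23), (181, 22), (194, 17), (195, 16), (197, 15), (200, 14), (214, 12), (226, 4)],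
    [(135, 48), (136, 47), (137, 46), (138, 45), (139, 44), (163, 42), (164, 41), (165, 40), (166, 39), (167, 38), (184, 27), (185, 26), (186, 25), (188, 24), (189, 23), (191, 22), (194, 21), (195, 20), (197, 19), (200, 18), (219, 12), (226, 5)],
    [(141, 48), (142, 47), (143, 46), (144, 45), (145, 44), (162, 43), (169, 37), (170, 36), (171, 35), (172, 34), (174, 33), (175, 32), (176, 31), (178, 30), (179, 29), (181, 28), (204, 17), (205, 16), (207, 15), (210, 14), (214, 13), (226, 6)],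
    [(135, 50), (141, 49), (147, 47), (148, 46), (149, 45), (150, 44), (163, 43), (169, 41), (170, 40), (171, 39), (172, 38), (184, 33), (185, 32), (186, 31), (188, 30), (189, 29), (191, 28), (204, 21), (205, 20), (207, 19), (210, 18), (219, 13), (226, 7)],
    [(130, 51), (136, 50), (142, 49), (147, 48), (152, 46), (153, 45), (154, 44), (164, 43), (169, 42), (174, 40), (175, 39), (176, 38), (184, 36), (185, 35), (186, 34), (194, 30), (195, 29), (197, 28), (204, 24), (205, 23), (207, 22), (214, 18), (219, 14), (226, 8)],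
    [(126, 52), (131, 51), (137, 50), (143, 49), (148, 48), (152, 47), (156, 45), (157, 44), (165, 43), (170, 42), (174, 41), (178, 39), (179, 38), (184, 37), (188, 35), (189, 34), (194, 32), (195, 31), (200, 28), (204, 26), (205, 25), (210, 22), (214, 19), (219, 15), (226, 9)],
    [(123, 53), (127, 52), (132, 51), (138, 50), (144, 49), (149, 48), (153, 47), (156, 46), (159, 44), (166, 43), (171, 42), (175, 41), (178, 40), (181, 38), (185, 37), (188, 36), (191, 34), (194, 33), (197, 31), (200, 29), (204, 27), (207, 25), (210, 23), (214, 20), (219, 16), (226, 10)],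
    [(121, 54), (124, 53), (128, 52), (133, 51), (139, 50), (145, 49), (150, 48), (154, 47), (157, 46), (159, 45), (167, 43), (172, 42), (176, 41), (179, 40), (181, 39), (186, 37), (189, 36), (191, 35), (195, 33), (197, 32), (200, 30), (205, 27), (207, 26), (210, 24), (214, 21), (219, 17), (226, 11)]] : List (List (ℕ × Fin 56))).getD s.val []

/-- Two moves among the low coordinates. -/
def lw0 (s : Fin 56) : List (ℕ × Fin 56) :=
  ([[],
    [(35, 28), (45, 22)],
    [(35, 29), (45, 23)],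
    [(35, 31), (45, 25)],
    [(35, 34), (51, 25)],
    [(35, 38), (61, 25)],
    [(45, 34), (51, 31)],
    [(45, 38), (61, 31)],
    [(51, 38), (61, 34)],
    [(54, 38), (64, 34)],
    [(55, 38), (65, 34)],
    [],
    [(35, 44), (83, 25)],
    [(45, 44), (83, 31)],
    [(51, 44), (83, 34)],
    [(54, 44), (86, 34)],
    [(55, 44), (87, 34)],
    [],
    [(61, 44), (83, 38)],
    [(64, 44), (86, 38)],
    [(65, 44), (87, 38)],
    [],
    [(68, 44), (90, 38)],
    [(69, 44), (91, 38)],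
    [],
    [(70, 44), (92, 38)],
    [],
    [],
    [(73, 44), (101, 38)],
    [(74, 44), (102, 38)],
    [],
    [(75, 44), (103, 38)],
    [],
    [],
    [(76, 44), (104, 38)],
    [],
    [],
    [],
    [(77, 44), (135, 34)],
    [],
    [],
    [],
    [],
    [],
    [(162, 38), (163, 34)],
    [],
    [],
    [],
    [],
    [],
    [],
    [],
    [],
    [],
    [],
    []] : List (List (ℕ × Fin 56))).getD s.val []

/-- The neighbour of a coordinate. -/
def par0 (s : Fin 56) : ℕ × Fin 56 :=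
  ([(121, 1), (123, 2), (126, 3), (130, 4), (141, 6), (162, 12), (135, 7), (162, 13), (162, 14), (162, 15), (162, 16), (162, 17), (141, 13), (130, 14), (135, 18), (135, 19), (135, 20), (135, 21), (126, 19), (130, 22), (130, 23), (130, 24), (141, 28), (141, 29), (141, 30), (141, 31), (141, 32), (141, 33), (123, 29), (126, 31), (126, 32), (130, 34), (130, 35), (130, 36), (135, 38), (135, 39), (135, 40), (135, 41), (162, 44), (162, 45), (162, 46), (162, 47), (162, 48), (162, 50), (121, 45), (123, 46), (126, 47), (130, 48), (141, 50), (141, 51), (135, 51), (130, 52), (126, 53), (123, 54), (121, 55), (226, 11)] : List (ℕ × Fin 56)).getD s.val (0, s)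

/-- The row in the subsystem A₇. -/
def row0 : List (Fin 56) := [0, 1, 2, 3, 4, 5, 12]

/-- The moves inside the row. -/
def rl0 (s : Fin 56) : List (ℕ × Fin 56) :=
  ([[(118, 1), (115, 2), (111, 3), (106, 4), (100, 5), (72, 12)],
    [(121, 0), (116, 2), (112, 3), (107, 4), (101, 5), (73, 12)],
    [(124, 0), (123, 1), (113, 3), (108, 4), (102, 5), (74, 12)],
    [(128, 0), (127, 1), (126, 2), (109, 4), (103, 5), (75, 12)],
    [(133, 0), (132, 1), (131, 2), (130, 3), (104, 5), (76, 12)],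
    [(139, 0), (138, 1), (137, 2), (136, 3), (135, 4), (77, 12)],
    [],
    [],
    [],
    [],
    [],
    [],
    [(167, 0), (166, 1), (165, 2), (164, 3), (163, 4), (162, 5)],
    [],
    [],
    [],
    [],
    [],
    [],
    [],
    [],
    [],
    [],
    [],
    [],
    [],
    [],
    [],
    [],
    [],
    [],
    [],
    [],
    [],
    [],
    [],
    [],
    [],
    [],
    [],
    [],
    [],
    [],
    [],
    [],
    [],
    [],
    [],
    [],
    [],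
    [],
    [],
    [],
    [],
    [],
    []] : List (List (ℕ × Fin 56))).getD s.val []


end Cfsg.Agent.E8Deg
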