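import Cfsg.Agent.E8Deg.Defs2

/-!
# Generated tables for E₈: the block 1
-/

set_option autoImplicit false
set_option synthInstance.maxSize 2000
set_option synthInstance.maxHeartbeats 200000
set_option maxRecDepth 20000

namespace Cfsg.Agent.E8Deg

open Cfsg.Lie

/-- The roots. -/
def L1 : Fin 27 → ℕ := fun j => ([121, 124, 128, 133, 139, 145, 150, 154, 157, 159, 167, 172, 176, 179, 181, 186, 189, 191, 195, 197, 200, 205, 207, 210, 214, 219, 226] : List ℕ).getD j.val 0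

/-- The movers. -/
def M1 : List ℕ := [35, 73, 74, 75, 76, 77, 83, 86, 87, 90, 91, 95, 96, 98, 101, 102, 103, 104, 107, 108, 109, 112, 113, 116, 123, 126, 127, 130, 131, 132, 135, 136, 137, 138, 141, 142, 143, 144, 147, 148, 149, 152, 153, 156, 162, 163, 164, 165, 166, 169, 170, 171, 174, 175, 178, 184, 185, 188, 194, 204]

/-- The targets of the movers. -/
def tb1 : List (ℕ × List (ℕ × ℕ × ℤ)) :=
  [(35, [(21, 0, 1), (22, 1, -1), (23, 2, 1), (24, 3, -1), (25, 4, 1), (26, 10, -1)]),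
   (73, [(10, 0, 1), (14, 5, -1), (17, 6, -1), (19, 7, -1), (20, 8, -1), (26, 21, -1)]),
   (74, [(10, 1, 1), (13, 5, -1), (16, 6, -1), (18, 7, -1), (20, 9, 1), (26, 22, 1)]),
   (75, [(10, 2, 1), (12, 5, -1), (15, 6, -1), (18, 8, 1), (19, 9, 1), (26, 23, -1)]),
   (76, [(10, 3, 1), (11, 5, -1), (15, 7, 1), (16, 8, 1), (17, 9, 1), (26, 24, 1)]),
   (77, [(10, 4, 1), (11, 6, 1), (12, 7, 1), (13, 8, 1), (14, 9, 1), (26, 25, -1)]),
   (83, [(8, 0, 1), (9, 1, -1), (20, 10, -1), (23, 11, -1), (24, 12, -1), (25, 15, -1)]),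
   (86, [(7, 0, 1), (9, 2, -1), (19, 10, -1), (22, 11, -1), (24, 13, 1), (25, 16, 1)]),
   (87, [(7, 1, 1), (8, 2, -1), (18, 10, -1), (21, 11, -1), (24, 14, -1), (25, 17, -1)]),
   (90, [(6, 0, 1), (9, 3, -1), (17, 10, -1), (22, 12, 1), (23, 13, 1), (25, 18, -1)]),
   (91, [(6, 1, 1), (8, 3, -1), (16, 10, -1), (21, 12, 1), (23, 14, -1), (25, 19, 1)]),
   (95, [(5, 0, 1), (9, 4, -1), (14, 10, -1), (22, 15, -1), (23, 16, -1), (24, 18, -1)]),
   (96, [(5, 1, 1), (8, 4, -1), (13, 10, -1), (21, 15, -1), (23, 17, 1), (24, 19, 1)]),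
   (98, [(5, 3, 1), (6, 4, -1), (11, 10, -1), (21, 18, -1), (22, 19, -1), (23, 20, -1)]),
   (101, [(4, 0, 1), (9, 5, -1), (17, 11, 1), (19, 12, 1), (20, 13, 1), (25, 21, 1)]),
   (102, [(4, 1, 1), (8, 5, -1), (16, 11, 1), (18, 12, 1), (20, 14, -1), (25, 22, -1)]),
   (103, [(4, 2, 1), (7, 5, -1), (15, 11, 1), (18, 13, -1), (19, 14, -1), (25, 23, 1)]),
   (104, [(4, 3, 1), (6, 5, -1), (15, 12, -1), (16, 13, -1), (17, 14, -1), (25, 24, -1)]),
   (107, [(3, 0, 1), (9, 6, -1), (14, 11, -1), (19, 15, 1), (20, 16, 1), (24, 21, -1)]),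
   (108, [(3, 1, 1), (8, 6, -1), (13, 11, -1), (18, 15, 1), (20, 17, -1), (24, 22, 1)]),
   (109, [(3, 2, 1), (7, 6, -1), (12, 11, -1), (18, 16, -1), (19, 17, -1), (24, 23, -1)]),
   (112, [(2, 0, 1), (9, 7, -1), (14, 12, -1), (17, 15, -1), (20, 18, 1), (23, 21, 1)]),
   (113, [(2, 1, 1), (8, 7, -1), (13, 12, -1), (16, 15, -1), (20, 19, -1), (23, 22, -1)]),
   (116, [(1, 0, 1), (9, 8, -1), (14, 13, -1), (17, 16, -1), (19, 18, -1), (22, 21, -1)]),
   (123, [(0, 1, 1), (8, 9, -1), (13, 14, -1), (16, 17, -1), (18, 19, -1), (21, 22, -1)]),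
   (126, [(1, 2, 1), (7, 8, -1), (12, 13, -1), (15, 16, -1), (19, 20, -1), (22, 23, -1)]),
   (127, [(0, 2, 1), (7, 9, -1), (12, 14, -1), (15, 17, -1), (18, 20, 1), (21, 23, 1)]),
   (130, [(2, 3, 1), (6, 7, -1), (11, 12, -1), (16, 18, -1), (17, 19, -1), (23, 24, -1)]),
   (131, [(1, 3, 1), (6, 8, -1), (11, 13, -1), (15, 18, 1), (17, 20, -1), (22, 24, 1)]),
   (132, [(0, 3, 1), (6, 9, -1), (11, 14, -1), (15, 19, 1), (16, 20, 1), (21, 24, -1)]),
   (135, [(3, 4, 1), (5, 6, -1), (12, 15, -1), (13, 16, -1), (14, 17, -1), (24, 25, -1)]),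
   (136, [(2, 4, 1), (5, 7, -1), (11, 15, 1), (13, 18, -1), (14, 19, -1), (23, 25, 1)]),
   (137, [(1, 4, 1), (5, 8, -1), (11, 16, 1), (12, 18, 1), (14, 20, -1), (22, 25, -1)]),
   (138, [(0, 4, 1), (5, 9, -1), (11, 17, 1), (12, 19, 1), (13, 20, 1), (21, 25, 1)]),
   (141, [(3, 5, 1), (4, 6, -1), (10, 11, -1), (18, 21, -1), (19, 22, -1), (20, 23, -1)]),
   (142, [(2, 5, 1), (4, 7, -1), (10, 12, -1), (16, 21, 1), (17, 22, 1), (20, 24, -1)]),
   (143, [(1, 5, 1), (4, 8, -1), (10, 13, -1), (15, 21, -1), (17, 23, 1), (19, 24, 1)]),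
   (144, [(0, 5, 1), (4, 9, -1), (10, 14, -1), (15, 22, -1), (16, 23, -1), (18, 24, -1)]),
   (147, [(2, 6, 1), (3, 7, -1), (10, 15, -1), (13, 21, -1), (14, 22, -1), (20, 25, -1)]),
   (148, [(1, 6, 1), (3, 8, -1), (10, 16, -1), (12, 21, 1), (14, 23, -1), (19, 25, 1)]),
   (149, [(0, 6, 1), (3, 9, -1), (10, 17, -1), (12, 22, 1), (13, 23, 1), (18, 25, -1)]),
   (152, [(1, 7, 1), (2, 8, -1), (10, 18, -1), (11, 21, -1), (14, 24, -1), (17, 25, -1)]),
   (153, [(0, 7, 1), (2, 9, -1), (10, 19, -1), (11, 22, -1), (13, 24, 1), (16, 25, 1)]),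
   (156, [(0, 8, 1), (1, 9, -1), (10, 20, -1), (11, 23, -1), (12, 24, -1), (15, 25, -1)]),
   (162, [(4, 10, 1), (6, 11, 1), (7, 12, 1), (8, 13, 1), (9, 14, 1), (25, 26, -1)]),
   (163, [(3, 10, 1), (5, 11, -1), (7, 15, 1), (8, 16, 1), (9, 17, 1), (24, 26, 1)]),
   (164, [(2, 10, 1), (5, 12, -1), (6, 15, -1), (8, 18, 1), (9, 19, 1), (23, 26, -1)]),
   (165, [(1, 10, 1), (5, 13, -1), (6, 16, -1), (7, 18, -1), (9, 20, 1), (22, 26, 1)]),
   (166, [(0, 10, 1), (5, 14, -1), (6, 17, -1), (7, 19, -1), (8, 20, -1), (21, 26, -1)]),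
   (169, [(2, 11, 1), (3, 12, -1), (4, 15, 1), (8, 21, 1), (9, 22, 1), (20, 26, 1)]),
   (170, [(1, 11, 1), (3, 13, -1), (4, 16, 1), (7, 21, -1), (9, 23, 1), (19, 26, -1)]),
   (171, [(0, 11, 1), (3, 14, -1), (4, 17, 1), (7, 22, -1), (8, 23, -1), (18, 26, 1)]),
   (174, [(1, 12, 1), (2, 13, -1), (4, 18, 1), (6, 21, 1), (9, 24, 1), (17, 26, 1)]),
   (175, [(0, 12, 1), (2, 14, -1), (4, 19, 1), (6, 22, 1), (8, 24, -1), (16, 26, -1)]),
   (178, [(0, 13, 1), (1, 14, -1), (4, 20, 1), (6, 23, 1), (7, 24, 1), (15, 26, 1)]),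
   (184, [(1, 15, 1), (2, 16, -1), (3, 18, 1), (5, 21, -1), (9, 25, 1), (14, 26, -1)]),
   (185, [(0, 15, 1), (2, 17, -1), (3, 19, 1), (5, 22, -1), (8, 25, -1), (13, 26, 1)]),
   (188, [(0, 16, 1), (1, 17, -1), (3, 20, 1), (5, 23, -1), (7, 25, 1), (12, 26, -1)]),
   (194, [(0, 18, 1), (1, 19, -1), (2, 20, 1), (5, 24, -1), (6, 25, -1), (11, 26, 1)]),
   (204, [(0, 21, 1), (1, 22, -1), (2, 23, 1), (3, 24, -1), (4, 25, 1), (10, 26, -1)])]

/-- The target map. -/
def tg1 : ℕ → Fin 27 → Option (Fin 27 × ℤ) := look tb1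

/-- The coordinates not reached from the highest one. -/
def bot1 : List (Fin 27) := [0, 1, 2, 3, 4, 5, 6, 7, 8, 9]

/-- The low coordinates used as pivots. -/
def core1 : List (Fin 27) := [0, 1, 2, 3, 4, 5, 6, 7, 8, 9]

/-- The moves reaching a pivot. -/
def cel1 (s : Fin 27) : List (ℕ × Fin 27) :=
  ([[],
    [(123, 0)],
    [(126, 1), (127, 0)],
    [(130, 2), (131, 1), (132, 0)],
    [(135, 3), (136, 2), (137, 1), (138, 0)],
    [(141, 3), (142, 2), (143, 1), (144, 0)],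
    [(135, 5), (141, 4), (147, 2), (148, 1), (149, 0)],
    [(130, 6), (136, 5), (142, 4), (147, 3), (152, 1), (153, 0)],
    [(126, 7), (131, 6), (137, 5), (143, 4), (148, 3), (152, 2), (156, 0)],
    [(123, 8), (127, 7), (132, 6), (138, 5), (144, 4), (149, 3), (153, 2), (156, 1)],
    [(162, 4), (163, 3), (164, 2), (165, 1), (166, 0)],
    [(141, 10), (162, 6), (163, 5), (169, 2), (170, 1), (171, 0)],
    [(130, 11), (142, 10), (162, 7), (164, 5), (169, 3), (174, 1), (175, 0)],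
    [(126, 12), (131, 11), (143, 10), (162, 8), (165, 5), (170, 3), (174, 2), (178, 0)],
    [(123, 13), (127, 12), (132, 11), (144, 10), (162, 9), (166, 5), (171, 3), (175, 2), (178, 1)],
    [(135, 12), (136, 11), (147, 10), (163, 7), (164, 6), (169, 4), (184, 1), (185, 0)],
    [(126, 15), (135, 13), (137, 11), (148, 10), (163, 8), (165, 6), (170, 4), (184, 2), (188, 0)],
    [(123, 16), (127, 15), (135, 14), (138, 11), (149, 10), (163, 9), (166, 6), (171, 4), (185, 2), (188, 1)],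
    [(130, 16), (131, 15), (136, 13), (137, 12), (152, 10), (164, 8), (165, 7), (174, 4), (184, 3), (194, 0)],
    [(123, 18), (130, 17), (132, 15), (136, 14), (138, 12), (153, 10), (164, 9), (166, 7), (175, 4), (185, 3), (194, 1)],
    [(126, 19), (127, 18), (131, 17), (132, 16), (137, 14), (138, 13), (156, 10), (165, 9), (166, 8), (178, 4), (188, 3), (194, 2)],
    [(141, 18), (142, 16), (143, 15), (147, 13), (148, 12), (152, 11), (169, 8), (170, 7), (174, 6), (184, 5), (204, 0)],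
    [(123, 21), (141, 19), (142, 17), (144, 15), (147, 14), (149, 12), (153, 11), (169, 9), (171, 7), (175, 6), (185, 5), (204, 1)],
    [(126, 22), (127, 21), (141, 20), (143, 17), (144, 16), (148, 14), (149, 13), (156, 11), (170, 9), (171, 8), (178, 6), (188, 5), (204, 2)],
    [(130, 23), (131, 22), (132, 21), (142, 20), (143, 19), (144, 18), (152, 14), (153, 13), (156, 12), (174, 9), (175, 8), (178, 7), (194, 5), (204, 3)],
    [(135, 24), (136, 23), (137, 22), (138, 21), (147, 20), (148, 19), (149, 18), (152, 17), (153, 16), (156, 15), (184, 9), (185, 8), (188, 7), (194, 6), (204, 4)],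
    [(162, 25), (163, 24), (164, 23), (165, 22), (166, 21), (169, 20), (170, 19), (171, 18), (174, 17), (175, 16), (178, 15), (184, 14), (185, 13), (188, 12), (194, 11), (204, 10)]] : List (List (ℕ × Fin 27))).getD s.val []

/-- Two moves among the low coordinates. -/
def lw1 (s : Fin 27) : List (ℕ × Fin 27) :=
  ([[(83, 8), (86, 7)],
    [(83, 9), (87, 7)],
    [(86, 9), (87, 8)],
    [(90, 9), (91, 8)],
    [(95, 9), (96, 8)],
    [(101, 9), (102, 8)],
    [(107, 9), (108, 8)],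
    [(112, 9), (113, 8)],
    [(116, 9), (126, 7)],
    [(123, 8), (127, 7)],
    [],
    [],
    [],
    [],
    [],
    [],
    [],
    [],
    [],
    [],
    [],
    [],
    [],
    [],
    [],
    [],
    []] : List (List (ℕ × Fin 27))).getD s.val []

/-- The neighbour of a coordinate. -/
def par1 (s : Fin 27) : ℕ × Fin 27 :=
  ([(123, 1), (126, 2), (130, 3), (141, 5), (162, 10), (135, 6), (162, 11), (162, 12), (162, 13), (162, 14), (141, 11), (130, 12), (135, 15), (135, 16), (135, 17), (126, 16), (130, 18), (130, 19), (141, 21), (141, 22), (141, 23), (123, 22), (126, 23), (130, 24), (135, 25), (162, 26), (204, 10)] : List (ℕ × Fin 27)).getD s.val (0, s)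

/-- The row in the subsystem A₇. -/
def row1 : List (Fin 27) := [0, 1, 2, 3, 4, 10]

/-- The moves inside the row. -/
def rl1 (s : Fin 27) : List (ℕ × Fin 27) :=
  ([[(116, 1), (112, 2), (107, 3), (101, 4), (73, 10)],
    [(123, 0), (113, 2), (108, 3), (102, 4), (74, 10)],
    [(127, 0), (126, 1), (109, 3), (103, 4), (75, 10)],
    [(132, 0), (131, 1), (130, 2), (104, 4), (76, 10)],
    [(138, 0), (137, 1), (136, 2), (135, 3), (77, 10)],
    [],
    [],
    [],
    [],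
    [],
    [(166, 0), (165, 1), (164, 2), (163, 3), (162, 4)],
    [],
    [],
    [],
    [],
    [],
    [],
    [],
    [],
    [],
    [],
    [],
    [],
    [],
    [],
    [],
    []] : List (List (ℕ × Fin 27))).getD s.val []


end Cfsg.Agent.E8Deg
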