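import Cfsg.Agent.E8Deg.Defs2

/-!
# Generated tables for E₈: the block 2
-/

set_option autoImplicit false
set_option synthInstance.maxSize 2000
set_option synthInstance.maxHeartbeats 200000
set_option maxRecDepth 20000

namespace Cfsg.Agent.E8Deg

open Cfsg.Lie

/-- The roots. -/
def L2 : Fin 16 → ℕ := fun j => ([162, 163, 164, 165, 166, 169, 170, 171, 174, 175, 178, 184, 185, 188, 194, 204] : List ℕ).getD j.val 0

/-- The movers. -/
def M2 : List ℕ := [83, 98, 101, 102, 103, 104, 107, 108, 109, 112, 113, 116, 123, 126, 127, 130, 131, 132, 135, 136, 137, 138, 141, 142, 143, 144, 147, 148, 149, 152, 153, 156]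

/-- The targets of the movers. -/
def tb2 : List (ℕ × List (ℕ × ℕ × ℤ)) :=
  [(83, [(10, 0, -1), (13, 1, -1), (14, 2, -1), (15, 5, -1)]),
   (98, [(5, 2, -1), (6, 3, -1), (7, 4, -1), (15, 14, -1)]),
   (101, [(4, 0, -1), (12, 5, -1), (13, 6, -1), (14, 8, -1)]),
   (102, [(3, 0, -1), (11, 5, -1), (13, 7, 1), (14, 9, 1)]),
   (103, [(2, 0, -1), (11, 6, 1), (12, 7, 1), (14, 10, -1)]),
   (104, [(1, 0, -1), (11, 8, -1), (12, 9, -1), (13, 10, -1)]),
   (107, [(4, 1, -1), (9, 5, 1), (10, 6, 1), (14, 11, -1)]),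
   (108, [(3, 1, -1), (8, 5, 1), (10, 7, -1), (14, 12, 1)]),
   (109, [(2, 1, -1), (8, 6, -1), (9, 7, -1), (14, 13, -1)]),
   (112, [(4, 2, -1), (7, 5, -1), (10, 8, 1), (13, 11, 1)]),
   (113, [(3, 2, -1), (6, 5, -1), (10, 9, -1), (13, 12, -1)]),
   (116, [(4, 3, -1), (7, 6, -1), (9, 8, -1), (12, 11, -1)]),
   (123, [(3, 4, -1), (6, 7, -1), (8, 9, -1), (11, 12, -1)]),
   (126, [(2, 3, -1), (5, 6, -1), (9, 10, -1), (12, 13, -1)]),
   (127, [(2, 4, -1), (5, 7, -1), (8, 10, 1), (11, 13, 1)]),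
   (130, [(1, 2, -1), (6, 8, -1), (7, 9, -1), (13, 14, -1)]),
   (131, [(1, 3, -1), (5, 8, 1), (7, 10, -1), (12, 14, 1)]),
   (132, [(1, 4, -1), (5, 9, 1), (6, 10, 1), (11, 14, -1)]),
   (135, [(0, 1, -1), (8, 11, -1), (9, 12, -1), (10, 13, -1)]),
   (136, [(0, 2, -1), (6, 11, 1), (7, 12, 1), (10, 14, -1)]),
   (137, [(0, 3, -1), (5, 11, -1), (7, 13, 1), (9, 14, 1)]),
   (138, [(0, 4, -1), (5, 12, -1), (6, 13, -1), (8, 14, -1)]),
   (141, [(2, 5, -1), (3, 6, -1), (4, 7, -1), (14, 15, -1)]),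
   (142, [(1, 5, 1), (3, 8, -1), (4, 9, -1), (13, 15, 1)]),
   (143, [(1, 6, 1), (2, 8, 1), (4, 10, -1), (12, 15, -1)]),
   (144, [(1, 7, 1), (2, 9, 1), (3, 10, 1), (11, 15, 1)]),
   (147, [(0, 5, -1), (3, 11, -1), (4, 12, -1), (10, 15, -1)]),
   (148, [(0, 6, -1), (2, 11, 1), (4, 13, -1), (9, 15, 1)]),
   (149, [(0, 7, -1), (2, 12, 1), (3, 13, 1), (8, 15, -1)]),
   (152, [(0, 8, -1), (1, 11, -1), (4, 14, -1), (7, 15, -1)]),
   (153, [(0, 9, -1), (1, 12, -1), (3, 14, 1), (6, 15, 1)]),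
   (156, [(0, 10, -1), (1, 13, -1), (2, 14, -1), (5, 15, -1)])]

/-- The target map. -/
def tg2 : ℕ → Fin 16 → Option (Fin 16 × ℤ) := look tb2

/-- The coordinates not reached from the highest one. -/
def bot2 : List (Fin 16) := [0, 1, 2, 3, 4]

/-- The low coordinates used as pivots. -/
def core2 : List (Fin 16) := [0, 1, 2, 3, 4]

/-- The moves reaching a pivot. -/
def cel2 (s : Fin 16) : List (ℕ × Fin 16) :=
  ([[],
    [(135, 0)],
    [(130, 1), (136, 0)],
    [(126, 2), (131, 1), (137, 0)],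
    [(123, 3), (127, 2), (132, 1), (138, 0)],
    [(141, 2), (142, 1), (147, 0)],
    [(126, 5), (141, 3), (143, 1), (148, 0)],
    [(123, 6), (127, 5), (141, 4), (144, 1), (149, 0)],
    [(130, 6), (131, 5), (142, 3), (143, 2), (152, 0)],
    [(123, 8), (130, 7), (132, 5), (142, 4), (144, 2), (153, 0)],
    [(126, 9), (127, 8), (131, 7), (132, 6), (143, 4), (144, 3), (156, 0)],
    [(135, 8), (136, 6), (137, 5), (147, 3), (148, 2), (152, 1)],
    [(123, 11), (135, 9), (136, 7), (138, 5), (147, 4), (149, 2), (153, 1)],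
    [(126, 12), (127, 11), (135, 10), (137, 7), (138, 6), (148, 4), (149, 3), (156, 1)],
    [(130, 13), (131, 12), (132, 11), (136, 10), (137, 9), (138, 8), (152, 4), (153, 3), (156, 2)],
    [(141, 14), (142, 13), (143, 12), (144, 11), (147, 10), (148, 9), (149, 8), (152, 7), (153, 6), (156, 5)]] : List (List (ℕ × Fin 16))).getD s.val []

/-- Two moves among the low coordinates. -/
def lw2 (s : Fin 16) : List (ℕ × Fin 16) :=
  ([[(101, 4), (102, 3)],
    [(107, 4), (108, 3)],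
    [(112, 4), (113, 3)],
    [(116, 4), (126, 2)],
    [(123, 3), (127, 2)],
    [],
    [],
    [],
    [],
    [],
    [],
    [],
    [],
    [],
    [],
    []] : List (List (ℕ × Fin 16))).getD s.val []

/-- The neighbour of a coordinate. -/
def par2 (s : Fin 16) : ℕ × Fin 16 :=
  ([(135, 1), (130, 2), (141, 5), (141, 6), (141, 7), (126, 6), (130, 8), (130, 9), (135, 11), (135, 12), (135, 13), (123, 12), (126, 13), (130, 14), (141, 15), (156, 5)] : List (ℕ × Fin 16)).getD s.val (0, s)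

/-- The row in the subsystem A₇. -/
def row2 : List (Fin 16) := [0, 1, 2, 3, 4]

/-- The moves inside the row. -/
def rl2 (s : Fin 16) : List (ℕ × Fin 16) :=
  ([[(104, 1), (103, 2), (102, 3), (101, 4)],
    [(135, 0), (109, 2), (108, 3), (107, 4)],
    [(136, 0), (130, 1), (113, 3), (112, 4)],
    [(137, 0), (131, 1), (126, 2), (116, 4)],
    [(138, 0), (132, 1), (127, 2), (123, 3)],
    [],
    [],
    [],
    [],
    [],
    [],
    [],
    [],
    [],
    [],
    []] : List (List (ℕ × Fin 16))).getD s.val []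


end Cfsg.Agent.E8Deg
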